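import Cfsg.Agent.H661.OC.RowFrame
import Cfsg.Agent.H151.OC.HThree

/-!
# S4829: the row in own characteristic from an adjoint frame (helper661)

* `rowA_frame` : `R : RGD`, `D : Adj`, `GG = ⊤`, rigidity, `MultOne`, `hN` for `Y`; `S` normal in `Y`, containing `U`, simple;
  `t ∈ T ∩ S` with `∏ i, eta (D.a i t) = -1`.
* `X_le`, `sup_T`, `index_not_dvd`, `T_comm` : facts on `S` and `T`.
-/

set_option autoImplicit false

open Cfsg

namespace Cfsg.Agent.H661.OC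

open Cfsg.Agent.Characters Cfsg.Agent.H770.CY Cfsg.Agent.H712.OC Cfsg.Agent.H743.GG
open Cfsg.Agent.H53.HC Cfsg.Agent.H641.Gow Cfsg.Agent.H148.GG Cfsg.Agent.H40.OC

open CoxeterSystem Cfsg.Agent.ChevalleyStructure.CoxeterGeom Cfsg.Agent.Tits.Roots Cfsg.Agent.Tits.Core
  Cfsg.Agent.Tits.Exchange Cfsg.Agent.Nodes.Reps Cfsg.Agent.Nodes.BNOf Cfsg.Agent.Nodes.StabComb
  Cfsg.Agent.Nodes.Bruhat Cfsg.Agent.Nodes.OppDec Cfsg.Agent.Nodes.LeviDec

universe u

variable {I W : Type*} {Y : Type u} [Fintype I] [DecidableEq I] [Group W] [Group Y] {M : CoxeterMatrix I}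
  {cs : CoxeterSystem M W} {A : I → I → ℤ} {h : IsCartan M A} {p : ℕ} {T : Subgroup Y} {n : I → Y}
  {X : (I → ℤ) → Subgroup Y}

variable (R : RGD cs h p T n X) {F : I → Type*} [∀ i, Field (F i)] (D : Adj T X F)

include R in
/-- a normal subgroup containing `U` contains all the root groups -/
theorem X_le {S : Subgroup Y} [hn : S.Normal] (hUS : UU cs h X ≤ S) {x : I → ℤ} (hx : IsRoot cs h x) : X x ≤ S := by
  obtain ⟨w, i, rfl⟩ := hx
  obtain ⟨g, hg⟩ := exists_rp cs R.nsys w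
  rw [← R.conj_rp hg (isRoot_sr cs h i)]
  intro y hy
  obtain ⟨u, hu, rfl⟩ := hy
  exact hn.conj_mem u (hUS (X_le_UU i hu)) g

include R in
theorem sup_T (hG : GG cs h T X = ⊤) {S : Subgroup Y} [S.Normal] (hUS : UU cs h X ≤ S) : S ⊔ T = ⊤ := by
  rw [eq_top_iff, ← hG]
  refine sup_le le_sup_right (le_trans ?_ le_sup_left)
  exact RGD.Sup_le fun x hx => X_le R hUS hx

include R in
theorem index_not_dvd [Finite W] [Finite Y] [hp : Fact p.Prime] (hG : GG cs h T X = ⊤) {S : Subgroup Y}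
    (hUS : UU cs h X ≤ S) : ¬ p ∣ S.index := by
  obtain ⟨P, hP⟩ := KFacts.RgdAutFacts.exists_sylow R hG
  intro h1
  have hPS : (P : Subgroup Y) ≤ S := by
    rw [hP]
    exact hUS
  exact P.not_dvd_index (h1.trans (Subgroup.index_dvd_of_le hPS))

omit [Fintype I] in
theorem T_comm (hT : ∀ t : T, (∀ i, D.a i t = 1) → t = 1) (s t : T) : s * t = t * s := by
  have h1 : s * t * (t * s)⁻¹ = 1 := hT _ fun i => by
    rw [map_mul, map_inv, map_mul, map_mul, mul_comm (D.a i s), mul_inv_cancel]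
  exact mul_inv_eq_one.1 h1

/-- **The row of S4829 in own characteristic, from an adjoint frame.** -/
theorem rowA_frame [Finite W] [Finite Y] [∀ i, Finite (F i)] (hG : GG cs h T X = ⊤)
    (hT : ∀ t : T, (∀ i, D.a i t = 1) → t = 1) (hm : MultOne cs h T X) [hp : Fact p.Prime]
    (hN : ∀ f : ↥(UU cs h X) →* ℂˣ, ∀ u, (∀ i, co R D i u = 1) → f u = 1)
    {S : Subgroup Y} [S.Normal] [Fintype S] (hUS : UU cs h X ≤ S) [IsSimpleGroup S] (hna : ¬ IsMulCommutative S)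
    (hC : ∀ a : MulAut S, ¬ p ∣ orderOf a → (∃ Q : Sylow p S, ∀ x ∈ Q, a x = x) → a = 1)
    (hodd : ∀ i, Odd (Nat.card (F i))) {t : Y} (ht : t ∈ T) (htS : t ∈ S)
    (hsgn : ∏ i, eta (F i) (D.a i ⟨t, ht⟩) = -1) : RowA p S := by
  classical
  have : Fintype Y := Fintype.ofFinite _
  exact rowA_frame_of R D hG hN hUS hna hC hodd ht htS hsgn fun lamS h2 hl θ hd hne =>
    H151.OC.h_three_cyc' R D hG hT hm hN S hUS lamS (fun u hu => hl ⟨u, hUS hu⟩ hu) h2 θ.2 hd hne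

end Cfsg.Agent.H661.OC
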