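import Cfsg.Agent.H661.OC.OwnRX
import Cfsg.Agent.H712.OC.LamFrame
import Cfsg.Agent.KFacts.RgdAutFacts

/-!
# S4829: the row in own characteristic from an adjoint frame (helper661)

`R : RGD`, `D : Adj` for `Y`, `S` normal in `Y` containing `U`, of index prime to `p`, simple.

* `rowA_frame_of` : `RowA p S` from `t ∈ T ∩ S` with `∏ i, eta (D.a i t) = -1` (helper712's sign character of the stabilizer
  of `U`), and helper151's statement (H3) for the linear characters of `B ∩ S` with values `±1`, trivial on `U`.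
-/

set_option autoImplicit false

open Cfsg

namespace Cfsg.Agent.H661.OC

open Cfsg.Agent.Characters Cfsg.Agent.H770.CY Cfsg.Agent.H712.OC
open Cfsg.Agent.H53.HC Cfsg.Agent.H641.Gow Cfsg.Agent.H148.GG Cfsg.Agent.H40.OC

open CoxeterSystem Cfsg.Agent.ChevalleyStructure.CoxeterGeom Cfsg.Agent.Tits.Roots Cfsg.Agent.Tits.Core
  Cfsg.Agent.Tits.Exchange Cfsg.Agent.Nodes.Reps Cfsg.Agent.Nodes.BNOf Cfsg.Agent.Nodes.StabComb
  Cfsg.Agent.Nodes.Bruhat Cfsg.Agent.Nodes.OppDec Cfsg.Agent.Nodes.LeviDec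

universe u

/-- inner automorphisms act trivially on the abelianization -/
theorem sgnAut_conj {V : Type*} [Group V] [Finite V] (v : V) : sgnAut V (MulAut.conj v) = 1 := by
  have h1 : abAut V (MulAut.conj v) = 1 := by
    apply MulEquiv.ext
    intro x
    obtain ⟨w, rfl⟩ := QuotientGroup.mk_surjective x
    show abAut V (MulAut.conj v) (Abelianization.of w) = Abelianization.of w
    rw [abAut_of, MulAut.conj_apply, map_mul, map_mul, map_inv]
    rw [mul_comm (Abelianization.of v), mul_inv_cancel_right]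
  unfold sgnAut
  rw [MonoidHom.comp_apply, MonoidHom.comp_apply, h1, map_one, map_one]

variable {I W : Type*} {Y : Type u} [Fintype I] [DecidableEq I] [Group W] [Group Y] {M : CoxeterMatrix I}
  {cs : CoxeterSystem M W} {A : I → I → ℤ} {h : IsCartan M A} {p : ℕ} {T : Subgroup Y} {n : I → Y}
  {X : (I → ℤ) → Subgroup Y}

variable (R : RGD cs h p T n X) {F : I → Type*} [∀ i, Field (F i)] (D : Adj T X F)

include R in
/-- `B ∩ S` is the stabilizer of `U` in `S` -/
theorem mem_B_iff [Finite W] (hG : GG cs h T X = ⊤) {S : Subgroup Y} (hUS : UU cs h X ≤ S) (s : S) :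
    s ∈ (RGD.B cs h T X).subgroupOf S ↔ MulAut.conj s ∈ stU ((UU cs h X).subgroupOf S) := by
  rw [Subgroup.mem_subgroupOf, ← KFacts.RgdAut.normalizer_U' R hG, Subgroup.mem_normalizer_iff, mem_stU]
  constructor
  · intro h1 x
    exact (h1 (x : Y)).symm
  · intro h1 y
    constructor
    · intro hy
      exact (h1 ⟨y, hUS hy⟩).2 hy
    · intro hy
      have h2 : (s : Y) * y * (s : Y)⁻¹ ∈ S := hUS hy
      have h3 : y ∈ S := by
        have h4 := S.mul_mem (S.mul_mem (S.inv_mem s.2) h2) s.2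
        have h5 : (s : Y)⁻¹ * ((s : Y) * y * (s : Y)⁻¹) * (s : Y) = y := by group
        rwa [h5] at h4
      exact (h1 ⟨y, h3⟩).1 hy

/-- **the row from an adjoint frame** -/
theorem rowA_frame_of [Finite W] [Finite Y] [∀ i, Finite (F i)] (hG : GG cs h T X = ⊤) [hp : Fact p.Prime]
    (hN : ∀ f : ↥(UU cs h X) →* ℂˣ, ∀ u, (∀ i, co R D i u = 1) → f u = 1)
    {S : Subgroup Y} [Fintype S] (hUS : UU cs h X ≤ S) [IsSimpleGroup S] (hna : ¬ IsMulCommutative S)
    (hC : ∀ a : MulAut S, ¬ p ∣ orderOf a → (∃ Q : Sylow p S, ∀ x ∈ Q, a x = x) → a = 1)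
    (hodd : ∀ i, Odd (Nat.card (F i))) {t : Y} (ht : t ∈ T) (htS : t ∈ S) (hsgn : ∏ i, eta (F i) (D.a i ⟨t, ht⟩) = -1)
    (h3 : ∀ lamS : ↥((RGD.B cs h T X).subgroupOf S) →* ℂˣ, (∀ b, lamS b ^ 2 = 1) →
      (∀ u : S, ∀ hu : (u : Y) ∈ UU cs h X, lamS ⟨u, Subgroup.mem_subgroupOf.2 (RGD.U_le_B hu)⟩ = 1) →
      ∀ θ : IrrCharacter S, ¬ p ∣ charDegree (θ : S → ℂ) →
        classInner (indFun ((RGD.B cs h T X).subgroupOf S) fun b => ((lamS b : ℂˣ) : ℂ)) (θ : S → ℂ) ≠ 0 →
        classInner (indFun ((RGD.B cs h T X).subgroupOf S) fun b => ((lamS b : ℂˣ) : ℂ)) (θ : S → ℂ) = 1 ∧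
          Cyc p (θ : S → ℂ)) : RowA p S := by
  classical
  obtain ⟨P, hP⟩ := KFacts.RgdAutFacts.exists_sylow R hG
  have hPS : (P : Subgroup Y) ≤ S := by
    rw [hP]
    exact hUS
  let PS : Sylow p S := P.subtype hPS
  have hPSe : (PS : Subgroup S) = (UU cs h X).subgroupOf S := by
    show (P : Subgroup Y).subgroupOf S = _
    rw [hP]
  set US : Subgroup S := (UU cs h X).subgroupOf S with hUSdef
  have hK : ∀ s : S, s ∈ (RGD.B cs h T X).subgroupOf S ↔ MulAut.conj s ∈ stU US := mem_B_iff R hG hUS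
  let lamS : ↥((RGD.B cs h T X).subgroupOf S) →* ℂˣ :=
    { toFun := fun b => sgnAb US ⟨MulAut.conj (b : S), (hK b).1 b.2⟩
      map_one' := by
        rw [← map_one (sgnAb US)]
        exact congrArg (sgnAb US) (Subtype.ext (map_one MulAut.conj))
      map_mul' := fun x y => by
        rw [← map_mul (sgnAb US)]
        exact congrArg (sgnAb US) (Subtype.ext (map_mul MulAut.conj (x : S) (y : S))) }
  refine rowA_own (conj_injective hna) hC PS (stU US) (fun a ha => ?_) (sgnAb US) (sgnAb_sq US)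
    ((RGD.B cs h T X).subgroupOf S) hK ⟨⟨t, htS⟩, ?_, ?_⟩ (h3 lamS (fun b => sgnAb_sq US _) ?_)
  · rw [mem_stU]
    intro x
    have h1 := ha x
    rw [← hPSe]
    exact h1.symm
  · exact (hK ⟨t, htS⟩).1 (Subgroup.mem_subgroupOf.2 (RGD.T_le_B ht))
  · intro h1
    have hc : MulAut.conj (⟨t, htS⟩ : S) ∈ stU US := (hK ⟨t, htS⟩).1 (Subgroup.mem_subgroupOf.2 (RGD.T_le_B ht))
    have h2 : sgnAut US (rsU US ⟨MulAut.conj (⟨t, htS⟩ : S), hc⟩) = -1 := by
      rw [← hsgn]
      let e : US ≃* ↥(UU cs h X) := Subgroup.subgroupOfEquivOfLe hUS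
      refine sgnAut_eq hodd (fun i => (co R D i).comp (e : US →* ↥(UU cs h X))) (fun c => ?_) (fun f u hu => ?_) _
        (fun i => D.a i ⟨t, ht⟩) fun i u => ?_
      · obtain ⟨u, hu⟩ := co_joint R D c
        refine ⟨e.symm u, fun i => ?_⟩
        rw [← hu i]
        show co R D i (e (e.symm u)) = co R D i u
        rw [MulEquiv.apply_symm_apply]
      · have h3 := hN (f.comp (e.symm : ↥(UU cs h X) →* US)) (e u) hu
        have h4 : (f.comp (e.symm : ↥(UU cs h X) →* US)) (e u) = f u := by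
          show f (e.symm (e u)) = f u
          rw [MulEquiv.symm_apply_apply]
        rwa [h4] at h3
      · have h3 : e (rsU US ⟨MulAut.conj (⟨t, htS⟩ : S), hc⟩ u) =
            ⟨(t : Y) * (e u : Y) * (t : Y)⁻¹, T_conj_UU R ht (e u).2⟩ := Subtype.ext rfl
        show co R D i (e (rsU US ⟨MulAut.conj (⟨t, htS⟩ : S), hc⟩ u)) =
          Multiplicative.ofAdd ((D.a i ⟨t, ht⟩ : F i) * Multiplicative.toAdd (co R D i (e u)))
        rw [h3]
        exact congrArg Multiplicative.ofAdd (co_T R D i ht (e u).2)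
    have h5 := congrArg (fun z : ℂˣ => (z : ℂ)) h1
    have h6 := sgnAb_apply US ⟨MulAut.conj (⟨t, htS⟩ : S), hc⟩
    rw [h2] at h6
    have h7 : ((sgnAb US ⟨MulAut.conj (⟨t, htS⟩ : S), hc⟩ : ℂˣ) : ℂ) = 1 := by
      rw [h1]
      rfl
    rw [h7] at h6
    norm_num at h6
  · intro u hu
    have hc : MulAut.conj u ∈ stU US := (hK u).1 (Subgroup.mem_subgroupOf.2 (RGD.U_le_B hu))
    have hu' : u ∈ US := Subgroup.mem_subgroupOf.2 hu
    have h1 : rsU US ⟨MulAut.conj u, hc⟩ = MulAut.conj (⟨u, hu'⟩ : US) := by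
      apply MulEquiv.ext
      intro x
      exact Subtype.ext rfl
    apply Units.ext
    show ((sgnAb US ⟨MulAut.conj u, hc⟩ : ℂˣ) : ℂ) = 1
    rw [sgnAb_apply, h1, sgnAut_conj]
    simp

end Cfsg.Agent.H661.OC
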