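import Cfsg.Agent.H770.CY.Defs
import Cfsg.Agent.H687.Induce
import Cfsg.Agent.H589.BD.Ex
import Cfsg.Agent.Characters.Clifford
import Cfsg.Agent.Characters.Brauer
import Cfsg.Agent.Characters.Linear
import Cfsg.Agent.Characters.GaloisIrr
import Cfsg.Agent.Blocks.Basic

/-!
# S4829: the part of a character over the characters of degree prime to `p` of a normal subgroup (helper661)

`ι : S →* G` injective with normal image, `Θ` a character of `G`.

* `exists_part` : `ψ`, the part of `Θ` lying over the irreducible characters of `S` of degree prime to `p`; it is fixed by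
  every Galois map fixing `Θ`; if `p` does not divide `Θ(1)`, it does not divide `ψ(1)` either.
* `witA_of_char` : the witness `WitA` of S4829 when the constituents of degree prime to `p` of `Θ|S` have multiplicity one,
  are nontrivial and `Cyc p`.
* `witA_ind` : `Θ` induced from a character of the stabilizer of a Sylow subgroup of `S`.
* `rowA_own` : **the row in own characteristic** from a character `lam` with values `±1` of the stabilizer of `U` in
  `MulAut S`, nontrivial on `N_S(U)`, such that every constituent of degree prime to `p` of the character of `S` induced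
  from `lam` on `N_S(U)` has multiplicity one and is `Cyc p`.
-/

set_option autoImplicit false

open Cfsg

namespace Cfsg.Agent.H661.OC

open Cfsg.Agent.Characters Cfsg.Agent.H770.CY
open scoped ComplexConjugate

universe u v

section part

variable {p : ℕ} {G : Type u} {S : Type v} [Group G] [Fintype G] [Group S] [Fintype S] {ι : S →* G}

/-- the irreducible constituents of the restriction to a normal subgroup have the same degree -/
theorem deg_eq (hι : Function.Injective ι) (hn : ι.range.Normal) {χ : G → ℂ} (hχ : IsIrrCharacter G χ) {θ θ' : S → ℂ}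
    (hθ : IsIrrCharacter S θ) (hθ' : IsIrrCharacter S θ') (h1 : classInner (χ ∘ ι) θ ≠ 0)
    (h2 : classInner (χ ∘ ι) θ' ≠ 0) : θ' 1 = θ 1 := by
  classical
  have : Fintype ι.range := Fintype.ofFinite _
  let e : S ≃* ι.range := MonoidHom.ofInjective hι
  have key : ∀ φ : S → ℂ, classInner (fun n : ι.range => χ n) (φ ∘ e.symm) = classInner (χ ∘ ι) φ := by
    intro φ
    have h3 := Clifford.classInner_comp_mulEquiv e (fun n : ι.range => χ n) (φ ∘ e.symm)
    rw [← h3]
    congr 1
    funext s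
    show φ (e.symm (e s)) = φ s
    rw [MulEquiv.symm_apply_apply]
  obtain ⟨g, hg⟩ := Clifford.exists_conj_of_constituents ι.range hχ
    (Core.isIrr_comp (e.symm : ι.range →* S) e.symm.surjective hθ)
    (Core.isIrr_comp (e.symm : ι.range →* S) e.symm.surjective hθ') (by
      show classInner (fun n : ι.range => χ n) (θ ∘ e.symm) ≠ 0
      rwa [key]) (by
      show classInner (fun n : ι.range => χ n) (θ' ∘ e.symm) ≠ 0
      rwa [key])
  have h4 := congrFun hg 1
  simpa using h4

/-- `χ` lies over a character of `S` of degree prime to `p` -/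
def Lies (p : ℕ) (ι : S →* G) (χ : G → ℂ) : Prop :=
  ∃ θ : IrrCharacter S, ¬ p ∣ charDegree (θ : S → ℂ) ∧ classInner (χ ∘ ι) (θ : S → ℂ) ≠ 0

omit [Fintype S] in
theorem charDegree_congr {θ θ' : S → ℂ} (h : θ' 1 = θ 1) : charDegree θ' = charDegree θ := by
  show ⌊(θ' 1).re⌋₊ = ⌊(θ 1).re⌋₊
  rw [h]

theorem exists_part (p : ℕ) (hι : Function.Injective ι) (hn : ι.range.Normal) {Θ : G → ℂ} (hΘ : IsCharacter G Θ) :
    ∃ ψ : G → ℂ, IsCharacter G ψ ∧
      (∀ θ : IrrCharacter S, ¬ p ∣ charDegree (θ : S → ℂ) → classInner (ψ ∘ ι) (θ : S → ℂ) = classInner (Θ ∘ ι) (θ : S → ℂ)) ∧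
      (∀ θ : IrrCharacter S, p ∣ charDegree (θ : S → ℂ) → classInner (ψ ∘ ι) (θ : S → ℂ) = 0) ∧
      ∀ k : ℕ, k.Coprime (Nat.card G) → (∀ g : G, Θ (g ^ k) = Θ g) → ∀ g : G, ψ (g ^ k) = ψ g := by
  classical
  have : Finite (IrrCharacter G) := Core.finite_irr
  let _ : Fintype (IrrCharacter G) := Fintype.ofFinite _
  have hΘc := Core.isCharacter_isClassFunction hΘ
  have hnat : ∀ χ : IrrCharacter G, ∃ n : ℕ, classInner Θ (χ : G → ℂ) = n :=
    fun χ => Core.classInner_isNat hΘ (Core.isIrr_isCharacter χ.2)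
  choose a ha using hnat
  let c : IrrCharacter G → ℕ := fun χ => if Lies p ι (χ : G → ℂ) then a χ else 0
  let ψ : G → ℂ := ∑ χ : IrrCharacter G, c χ • (χ : G → ℂ)
  have hψ : IsCharacter G ψ := Core.isCharacter_iff.2 ⟨c, rfl⟩
  have e0 : ∀ x : G, ψ x = ∑ χ : IrrCharacter G, (c χ : ℂ) * (χ : G → ℂ) x := by
    intro x
    have h0 : ψ x = ∑ χ : IrrCharacter G, (c χ • (χ : G → ℂ)) x := Finset.sum_apply _ _ _
    rw [h0]
    exact Finset.sum_congr rfl fun χ _ => nsmul_eq_mul _ _
  have e1 : ψ ∘ ι = ∑ χ : IrrCharacter G, (c χ : ℂ) • ((χ : G → ℂ) ∘ ι) := by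
    funext s
    rw [Function.comp_apply, e0]
    simp only [Function.comp_apply, Finset.sum_apply, Pi.smul_apply, smul_eq_mul]
  have e2 : Θ ∘ ι = ∑ χ : IrrCharacter G, (a χ : ℂ) • ((χ : G → ℂ) ∘ ι) := by
    funext s
    rw [Function.comp_apply]
    conv_lhs => rw [Core.classFunction_eq_sum hΘc]
    simp only [Function.comp_apply, Finset.sum_apply, Pi.smul_apply]
    exact Finset.sum_congr rfl fun χ _ => by rw [ha χ]
  refine ⟨ψ, hψ, fun θ hd => ?_, fun θ hd => ?_, fun k hk hΘk => ?_⟩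
  · rw [e1, e2, Core.classInner_sum_left, Core.classInner_sum_left]
    refine Finset.sum_congr rfl fun χ _ => ?_
    rw [Core.classInner_smul_left, Core.classInner_smul_left]
    by_cases hl : Lies p ι (χ : G → ℂ)
    · rw [show c χ = a χ from if_pos hl]
    · have h0 : classInner ((χ : G → ℂ) ∘ ι) (θ : S → ℂ) = 0 := by
        by_contra h
        exact hl ⟨θ, hd, h⟩
      rw [h0, mul_zero, mul_zero]
  · rw [e1, Core.classInner_sum_left]
    refine Finset.sum_eq_zero fun χ _ => ?_
    rw [Core.classInner_smul_left]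
    by_cases hl : Lies p ι (χ : G → ℂ)
    · obtain ⟨θ0, h0, h0'⟩ := hl
      have h3 : classInner ((χ : G → ℂ) ∘ ι) (θ : S → ℂ) = 0 := by
        by_contra h
        apply h0
        rw [← charDegree_congr (deg_eq hι hn χ.2 θ0.2 θ.2 h0' h)]
        exact hd
      rw [h3, mul_zero]
    · rw [show c χ = 0 from if_neg hl, Nat.cast_zero, zero_mul]
  · obtain ⟨σ, hσ⟩ := GaloisBasic.exists_ringEquiv_pow (Nat.card_pos (α := G)).ne' hk
    have hσG : ∀ (χ : G → ℂ), IsCharacter G χ → ∀ g : G, σ (χ g) = χ (g ^ k) := fun χ hχ g =>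
      GaloisBasic.map_apply_card σ hσ hχ g
    have hcard : Nat.card S ∣ Nat.card G := by
      rw [Nat.card_congr (MonoidHom.ofInjective hι).toEquiv]
      exact Subgroup.card_subgroup_dvd_card _
    have hkS : k.Coprime (Nat.card S) := Nat.Coprime.coprime_dvd_right hcard hk
    have hσS : ∀ (χ : S → ℂ), IsCharacter S χ → ∀ g : S, σ (χ g) = χ (g ^ k) := fun χ hχ g =>
      GaloisBasic.map_apply_card σ (fun z hz => hσ z (by
        obtain ⟨m, hm⟩ := hcard
        rw [hm, pow_mul, hz, one_pow])) hχ g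
    let E : IrrCharacter G → IrrCharacter G := fun χ => ⟨fun g => (χ : G → ℂ) (g ^ k), GaloisIrr.isIrr_pow hk χ.2⟩
    have hEσ : ∀ χ : IrrCharacter G, ((E χ : IrrCharacter G) : G → ℂ) = fun g => σ ((χ : G → ℂ) g) := fun χ =>
      funext fun g => (hσG χ (Core.isIrr_isCharacter χ.2) g).symm
    have hEinj : Function.Injective E := by
      intro χ χ' h
      apply Subtype.ext
      funext g
      have h1 := congrFun (congrArg Subtype.val h) g
      rw [hEσ, hEσ] at h1
      exact σ.injective h1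
    have hEb : Function.Bijective E := Finite.injective_iff_bijective.1 hEinj
    have haE : ∀ χ, a (E χ) = a χ := by
      intro χ
      have h1 : classInner Θ ((E χ : IrrCharacter G) : G → ℂ) = σ (classInner Θ (χ : G → ℂ)) := by
        rw [← GaloisIrr.classInner_map σ (Core.isIrr_isCharacter χ.2), hEσ]
        congr 1
        funext g
        rw [hσG Θ hΘ, hΘk]
      rw [ha, ha, map_natCast] at h1
      exact_mod_cast h1
    -- transport of constituents
    have hcon : ∀ (χ : IrrCharacter G) (θ : IrrCharacter S), classInner ((χ : G → ℂ) ∘ ι) (θ : S → ℂ) ≠ 0 →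
        classInner (((E χ : IrrCharacter G) : G → ℂ) ∘ ι) (fun s => (θ : S → ℂ) (s ^ k)) ≠ 0 := by
      intro χ θ h
      have h1 : (((E χ : IrrCharacter G) : G → ℂ) ∘ ι) = fun s => σ (((χ : G → ℂ) ∘ ι) s) := by
        funext s
        rw [Function.comp_apply, hEσ]
        rfl
      have h2 : (fun s => (θ : S → ℂ) (s ^ k)) = fun s => σ ((θ : S → ℂ) s) :=
        funext fun s => (hσS θ (Core.isIrr_isCharacter θ.2) s).symm
      rw [h1, h2, GaloisIrr.classInner_map σ (Core.isIrr_isCharacter θ.2)]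
      exact fun h3 => h (σ.injective (by rw [h3, map_zero]))
    have hpdeg : ∀ θ : S → ℂ, charDegree (fun s => θ (s ^ k)) = charDegree θ := fun θ =>
      charDegree_congr (by show θ (1 ^ k) = θ 1; rw [one_pow])
    have hL : ∀ χ : IrrCharacter G, Lies p ι (χ : G → ℂ) ↔ Lies p ι ((E χ : IrrCharacter G) : G → ℂ) := by
      intro χ
      constructor
      · rintro ⟨θ, h1, h2⟩
        exact ⟨⟨fun s => (θ : S → ℂ) (s ^ k), GaloisIrr.isIrr_pow hkS θ.2⟩, by
          show ¬ p ∣ charDegree (fun s => (θ : S → ℂ) (s ^ k))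
          rw [hpdeg]
          exact h1, hcon χ θ h2⟩
      · rintro ⟨θ0, h1, h2⟩
        obtain ⟨θ, hθ⟩ : ∃ θ : IrrCharacter S, classInner ((χ : G → ℂ) ∘ ι) (θ : S → ℂ) ≠ 0 := by
          by_contra hcon2
          push Not at hcon2
          have h3 : (χ : G → ℂ) ∘ ι = 0 := Core.classFunction_eq_zero
            (Core.isCharacter_isClassFunction (Core.isCharacter_comp ι (Core.isIrr_isCharacter χ.2)))
            fun φ hφ => hcon2 ⟨φ, hφ⟩
          have h4 := congrFun h3 1
          rw [Function.comp_apply, map_one] at h4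
          exact Core.isIrr_apply_one_ne_zero χ.2 h4
        refine ⟨θ, ?_, hθ⟩
        have h5 := deg_eq hι hn (E χ).2 θ0.2 (GaloisIrr.isIrr_pow hkS θ.2) h2 (hcon χ θ hθ)
        rw [← hpdeg (θ : S → ℂ), charDegree_congr h5]
        exact h1
    have hcE : ∀ χ, c (E χ) = c χ := by
      intro χ
      by_cases hl : Lies p ι (χ : G → ℂ)
      · rw [show c χ = a χ from if_pos hl, show c (E χ) = a (E χ) from if_pos ((hL χ).1 hl), haE]
      · rw [show c χ = 0 from if_neg hl, show c (E χ) = 0 from if_neg (fun h => hl ((hL χ).2 h))]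
    intro g
    rw [e0, e0]
    refine Fintype.sum_bijective E hEb _ _ fun χ => ?_
    rw [hcE]

omit [Fintype G] in
/-- the degree of the part -/
theorem part_degree (p : ℕ) {Θ ψ : G → ℂ} (hΘ : IsCharacter G Θ) (hψ : IsCharacter G ψ)
    (h1 : ∀ θ : IrrCharacter S, ¬ p ∣ charDegree (θ : S → ℂ) → classInner (ψ ∘ ι) (θ : S → ℂ) = classInner (Θ ∘ ι) (θ : S → ℂ))
    (h2 : ∀ θ : IrrCharacter S, p ∣ charDegree (θ : S → ℂ) → classInner (ψ ∘ ι) (θ : S → ℂ) = 0)
    {D : ℕ} (hD : Θ 1 = D) (hpD : ¬ p ∣ D) : ∃ d : ℕ, ψ 1 = d ∧ ¬ p ∣ d := by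
  classical
  have : Finite (IrrCharacter S) := Core.finite_irr
  let _ : Fintype (IrrCharacter S) := Fintype.ofFinite _
  obtain ⟨d, hd⟩ := Core.isCharacter_apply_one hψ
  refine ⟨d, hd, fun hpd => hpD ?_⟩
  have hΘι : IsCharacter S (Θ ∘ ι) := Core.isCharacter_comp ι hΘ
  have hψι : IsCharacter S (ψ ∘ ι) := Core.isCharacter_comp ι hψ
  have hnat : ∀ θ : IrrCharacter S, ∃ n : ℕ, classInner (Θ ∘ ι) (θ : S → ℂ) = n :=
    fun θ => Core.classInner_isNat hΘι (Core.isIrr_isCharacter θ.2)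
  choose m hm using hnat
  have e1 : (D : ℂ) = ∑ θ : IrrCharacter S, (m θ : ℂ) * (charDegree (θ : S → ℂ) : ℂ) := by
    have h3 := congrFun (Core.classFunction_eq_sum (Core.isCharacter_isClassFunction hΘι)) 1
    rw [Function.comp_apply, map_one, hD] at h3
    rw [h3]
    simp only [Finset.sum_apply, Pi.smul_apply, smul_eq_mul]
    exact Finset.sum_congr rfl fun θ _ => by rw [hm, Cfsg.Agent.Blocks.Basic.irr_one_eq_charDegree θ.2]
  have e2 : (d : ℂ) = ∑ θ : IrrCharacter S, ((if p ∣ charDegree (θ : S → ℂ) then 0 else m θ : ℕ) : ℂ) *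
      (charDegree (θ : S → ℂ) : ℂ) := by
    have h3 := congrFun (Core.classFunction_eq_sum (Core.isCharacter_isClassFunction hψι)) 1
    rw [Function.comp_apply, map_one, hd] at h3
    rw [h3]
    simp only [Finset.sum_apply, Pi.smul_apply, smul_eq_mul]
    refine Finset.sum_congr rfl fun θ _ => ?_
    rw [Cfsg.Agent.Blocks.Basic.irr_one_eq_charDegree θ.2]
    split_ifs with h
    · rw [h2 θ h, Nat.cast_zero]
    · rw [h1 θ h, hm]
  have e3 : D = ∑ θ : IrrCharacter S, m θ * charDegree (θ : S → ℂ) := by exact_mod_cast e1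
  have e4 : d = ∑ θ : IrrCharacter S, (if p ∣ charDegree (θ : S → ℂ) then 0 else m θ) * charDegree (θ : S → ℂ) := by
    exact_mod_cast e2
  have e5 : D = d + ∑ θ : IrrCharacter S, (if p ∣ charDegree (θ : S → ℂ) then m θ * charDegree (θ : S → ℂ) else 0) := by
    rw [e3, e4, ← Finset.sum_add_distrib]
    refine Finset.sum_congr rfl fun θ _ => ?_
    split_ifs with h
    · rw [zero_mul, zero_add]
    · rw [add_zero]
  rw [e5]
  refine dvd_add hpd (Finset.dvd_sum fun θ _ => ?_)
  split_ifs with h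
  · exact h.mul_left _
  · exact dvd_zero p

end part

section wit

variable {p : ℕ} {S : Type u} [Group S] [Fintype S]

omit [Fintype S] in
theorem range_normal (A : Subgroup (MulAut S)) (hA : ∀ s : S, MulAut.conj s ∈ A) :
    ((MulAut.conj : S →* MulAut S).codRestrict A hA).range.Normal := by
  constructor
  rintro _ ⟨s, rfl⟩ g
  refine ⟨(g : MulAut S) s, Subtype.ext ?_⟩
  apply MulEquiv.ext
  intro x
  show (g : MulAut S) s * x * ((g : MulAut S) s)⁻¹ = (g : MulAut S) (s * (g : MulAut S)⁻¹ x * s⁻¹)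
  rw [map_mul, map_mul, map_inv, MulAut.apply_inv_self]

theorem mul_eq (ψ θ : S → ℂ) : mul ψ θ = classInner ψ θ := rfl

/-- **the witness from a character of `A`** -/
theorem witA_of_char [Fact p.Prime] {M : Ideal AlgInt} (hM : IsPModular p M) (A : Subgroup (MulAut S)) (hA : ∀ s : S, MulAut.conj s ∈ A)
    (hinj : Function.Injective (MulAut.conj : S →* MulAut S))
    (hC : ∀ a : A, ¬ p ∣ orderOf a → (∃ Q : Sylow p S, ∀ x ∈ Q, (a : MulAut S) x = x) → a = 1)
    {Θ : A → ℂ} (hΘ : IsCharacter A Θ) (hΘc : Cyc p Θ) {D : ℕ} (hD : Θ 1 = D) (hpD : ¬ p ∣ D)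
    (h3 : ∀ θ : IrrCharacter S, ¬ p ∣ charDegree (θ : S → ℂ) → classInner (res hA Θ) (θ : S → ℂ) ≠ 0 →
      classInner (res hA Θ) (θ : S → ℂ) = 1 ∧ (θ : S → ℂ) ≠ (fun _ => 1) ∧ Cyc p (θ : S → ℂ)) :
    ∃ Ψ : A → ℂ, WitA p M S A hA Ψ := by
  classical
  have : Fintype A := Fintype.ofFinite _
  let ι : S →* A := (MulAut.conj : S →* MulAut S).codRestrict A hA
  have hι : Function.Injective ι := fun x y h => hinj (congrArg Subtype.val h)
  obtain ⟨ψ, hψ, k1, k2, k3⟩ := exists_part p hι (range_normal A hA) hΘ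
  have hψres : ψ ∘ ι = res hA ψ := rfl
  have hΘres : Θ ∘ ι = res hA Θ := rfl
  refine ⟨ψ, ⟨hψ, fun k hk hkp => k3 k hk (hΘc k hk hkp), part_degree (ι := ι) p hΘ hψ k1 k2 hD hpD, ?_, ?_⟩⟩
  · intro θ
    rw [mul_eq]
    by_cases h5 : p ∣ charDegree (θ : S → ℂ)
    · exact Or.inl (k2 θ h5)
    · have h6 := k1 θ h5
      rw [hψres, hΘres] at h6
      rw [h6]
      by_cases h7 : classInner (res hA Θ) (θ : S → ℂ) = 0
      · exact Or.inl h7
      · exact Or.inr (h3 θ h5 h7)
  · intro a ha hQ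
    rw [hC a ha hQ, sub_self]
    exact ⟨0, 1, M.zero_mem, fun h => hM.2.1.ne_top (M.eq_top_of_isUnit_mem h isUnit_one), by simp⟩

/-- the image of a Sylow subgroup under an automorphism is conjugate to it -/
theorem frattini [Fact p.Prime] (U : Sylow p S) (a : MulAut S) :
    ∃ t : S, ∀ x : S, x ∈ U ↔ ((MulAut.conj t)⁻¹ * a) x ∈ U := by
  obtain ⟨t, ht⟩ := MulAction.exists_smul_eq S U (a • U)
  refine ⟨t, fun x => ?_⟩
  have h1 : a x ∈ (a • U : Sylow p S) ↔ x ∈ U := by
    have := Subgroup.smul_mem_pointwise_smul_iff (a := a) (S := (U : Subgroup S)) (x := x)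
    exact this
  rw [← h1, ← ht]
  show a x ∈ (t • U : Sylow p S) ↔ (MulAut.conj t)⁻¹ (a x) ∈ U
  have h2 := Subgroup.mem_pointwise_smul_iff_inv_smul_mem (a := MulAut.conj t) (S := (U : Subgroup S)) (x := a x)
  exact h2

/-- **the witness from a character of the stabilizer of a Sylow subgroup** -/
theorem witA_ind [Fact p.Prime] {M : Ideal AlgInt} (hM : IsPModular p M) (A : Subgroup (MulAut S))
    (hA : ∀ s : S, MulAut.conj s ∈ A) (hinj : Function.Injective (MulAut.conj : S →* MulAut S))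
    (hC : ∀ a : A, ¬ p ∣ orderOf a → (∃ Q : Sylow p S, ∀ x ∈ Q, (a : MulAut S) x = x) → a = 1)
    (U : Sylow p S) (H : Subgroup A) (hH : ∀ a : A, (∀ x : S, x ∈ U ↔ (a : MulAut S) x ∈ U) → a ∈ H)
    {lam : H → ℂ} (hlam : IsCharacter H lam) {m : ℕ} (hm : lam 1 = m) (hpm : ¬ p ∣ m)
    (hpow : ∀ k : ℕ, k.Coprime (Nat.card A) → k ≡ 1 [MOD p] → ∀ b : H, lam (b ^ k) = lam b)
    (K : Subgroup S) (hK : ∀ s : S, s ∈ K ↔ (⟨MulAut.conj s, hA s⟩ : A) ∈ H)
    (h3 : ∀ θ : IrrCharacter S, ¬ p ∣ charDegree (θ : S → ℂ) →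
      classInner (indFun K (fun t => lam ⟨⟨MulAut.conj (t : S), hA t⟩, (hK t).1 t.2⟩)) (θ : S → ℂ) ≠ 0 →
      classInner (indFun K (fun t => lam ⟨⟨MulAut.conj (t : S), hA t⟩, (hK t).1 t.2⟩)) (θ : S → ℂ) = 1 ∧
        (θ : S → ℂ) ≠ (fun _ => 1) ∧ Cyc p (θ : S → ℂ)) :
    ∃ Ψ : A → ℂ, WitA p M S A hA Ψ := by
  classical
  have : Fintype A := Fintype.ofFinite _
  let ι : S →* A := (MulAut.conj : S →* MulAut S).codRestrict A hA
  have hHι : ∀ x : A, ∃ t : S, (ι t)⁻¹ * x ∈ H := by
    intro x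
    obtain ⟨t, ht⟩ := frattini U (x : MulAut S)
    exact ⟨t, hH _ ht⟩
  have hKι : K = H.comap ι := by
    ext s
    exact hK s
  subst hKι
  have hcl := Core.isCharacter_isClassFunction hlam
  have hres : res hA (indFun H lam) = indFun (H.comap ι) (fun t => lam ⟨ι t, t.2⟩) := by
    funext s
    exact Cfsg.Agent.H687.indFun_comp ι H hHι lam (fun a b => by
      have := hcl b a⁻¹
      rwa [inv_inv] at this) s
  have hU : (U : Subgroup S) ≤ H.comap ι := by
    intro u hu
    refine hH _ fun x => ?_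
    show x ∈ (U : Subgroup S) ↔ u * x * u⁻¹ ∈ (U : Subgroup S)
    rw [Subgroup.mul_mem_cancel_right _ (Subgroup.inv_mem _ hu), Subgroup.mul_mem_cancel_left _ hu]
  have hdeg : indFun H lam 1 = ((H.comap ι).index * m : ℕ) := by
    have h4 := congrFun hres 1
    have h4' : res hA (indFun H lam) 1 = indFun H lam 1 := congrArg (indFun H lam) (map_one ι)
    have h5 : (fun t : H.comap ι => lam ⟨ι t, t.2⟩) 1 = lam 1 := congrArg lam (Subtype.ext (map_one ι))
    have h6 := Cfsg.Agent.H589.BD.indFun_one (H.comap ι) (fun t : H.comap ι => lam ⟨ι t, t.2⟩)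
    rw [← h4', h4, h6.trans (congrArg (fun z : ℂ => ((H.comap ι).index : ℂ) * z) (h5.trans hm))]
    push_cast
    ring
  refine witA_of_char hM A hA hinj hC (Brauer.isCharacter_indFun H hlam) (fun k hk hkp => ?_) hdeg ?_ ?_
  · have hl := hpow k hk hkp
    intro g
    rw [Core.indFun_apply, Core.indFun_apply]
    congr 1
    refine Finset.sum_congr rfl fun x _ => ?_
    have e : x⁻¹ * g ^ k * x = (x⁻¹ * g * x) ^ k := by
      have := conj_pow (i := k) (a := x⁻¹) (b := g)
      rw [inv_inv] at this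
      exact this.symm
    rw [e]
    set y := x⁻¹ * g * x with hy
    by_cases hyB : y ∈ H
    · rw [Core.extendByZero_of_mem H lam hyB, Core.extendByZero_of_mem H lam (H.pow_mem hyB k)]
      exact hl ⟨y, hyB⟩
    · have hyk : y ^ k ∉ H := by
        intro h
        apply hyB
        obtain ⟨j, hj⟩ := exists_pow_eq_self_of_coprime (hk.coprime_dvd_right (orderOf_dvd_natCard y))
        rw [← hj]
        exact H.pow_mem h j
      rw [Core.extendByZero_of_notMem H lam hyB, Core.extendByZero_of_notMem H lam hyk]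
  · intro h
    rcases (Nat.Prime.dvd_mul (Fact.out : p.Prime)).1 h with h | h
    · exact U.not_dvd_index (h.trans (Subgroup.index_dvd_of_le hU))
    · exact hpm h
  · intro θ h4 h5
    rw [hres] at h5 ⊢
    exact h3 θ h4 h5

/-- a linear character with values `±1` is fixed by the powers coprime to the order of the ambient group -/
theorem pow_eq_of_sq {A : Type*} [Group A] [Finite A] (H : Subgroup A) (lam : H →* ℂˣ) (h2 : ∀ b, lam b ^ 2 = 1)
    {k : ℕ} (hk : k.Coprime (Nat.card A)) (b : H) : lam (b ^ k) = lam b := by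
  rw [map_pow]
  by_cases hb : lam b = 1
  · rw [hb, one_pow]
  · have ho : orderOf (lam b) = 2 := orderOf_eq_prime (h2 b) hb
    have h3 : 2 ∣ Nat.card A := by
      have h4 : orderOf (lam b) ∣ orderOf b := orderOf_map_dvd lam b
      rw [ho] at h4
      exact h4.trans ((orderOf_dvd_natCard b).trans (Subgroup.card_subgroup_dvd_card H))
    have h5 : k.Coprime 2 := hk.coprime_dvd_right h3
    have h6 : k % 2 = 1 := by
      rcases Nat.even_or_odd k with h | h
      · exfalso
        obtain ⟨r, hr⟩ := h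
        have h7 : 2 ∣ Nat.gcd k 2 := Nat.dvd_gcd ⟨r, by omega⟩ dvd_rfl
        rw [h5] at h7
        omega
      · exact Nat.odd_iff.1 h
    rw [← Nat.div_add_mod k 2, h6, pow_add, pow_mul, h2, one_pow, one_mul, pow_one]

/-- **The row of S4829 in own characteristic.** -/
theorem rowA_own [Fact p.Prime] (hinj : Function.Injective (MulAut.conj : S →* MulAut S))
    (hC : ∀ a : MulAut S, ¬ p ∣ orderOf a → (∃ Q : Sylow p S, ∀ x ∈ Q, a x = x) → a = 1)
    (U : Sylow p S) (H : Subgroup (MulAut S)) (hH : ∀ a : MulAut S, (∀ x : S, x ∈ U ↔ a x ∈ U) → a ∈ H)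
    (lam : H →* ℂˣ) (h2 : ∀ a, lam a ^ 2 = 1) (K : Subgroup S) (hK : ∀ s : S, s ∈ K ↔ MulAut.conj s ∈ H)
    (hne : ∃ (s : S) (h : MulAut.conj s ∈ H), lam ⟨MulAut.conj s, h⟩ ≠ 1)
    (h3 : ∀ θ : IrrCharacter S, ¬ p ∣ charDegree (θ : S → ℂ) →
      classInner (indFun K (fun t => ((lam ⟨MulAut.conj (t : S), (hK t).1 t.2⟩ : ℂˣ) : ℂ))) (θ : S → ℂ) ≠ 0 →
      classInner (indFun K (fun t => ((lam ⟨MulAut.conj (t : S), (hK t).1 t.2⟩ : ℂˣ) : ℂ))) (θ : S → ℂ) = 1 ∧
        Cyc p (θ : S → ℂ)) : RowA p S := by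
  classical
  intro A hA M hM
  let j : H.subgroupOf A →* H :=
    { toFun := fun b => ⟨((b : A) : MulAut S), Subgroup.mem_subgroupOf.1 b.2⟩
      map_one' := rfl
      map_mul' := fun _ _ => rfl }
  refine witA_ind hM A hA.1 hinj (fun a ha hQ => Subtype.ext (hC a (by rwa [Subgroup.orderOf_coe]) hQ)) U
    (H.subgroupOf A) (fun a ha => Subgroup.mem_subgroupOf.2 (hH a ha)) (lam := fun b => ((lam (j b) : ℂˣ) : ℂ))
    (Linear.isCharacter_hom (lam.comp j)) (m := 1) (by simp) (fun h => ?_) (fun k hk _ b => ?_) K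
    (fun s => (hK s).trans Iff.rfl) (fun θ hd hθ => ?_)
  · exact (Fact.out : p.Prime).one_lt.ne' (Nat.dvd_one.1 h)
  · show (((lam.comp j) (b ^ k) : ℂˣ) : ℂ) = (((lam.comp j) b : ℂˣ) : ℂ)
    rw [pow_eq_of_sq (H.subgroupOf A) (lam.comp j) (fun b => h2 (j b)) hk b]
  · have h4 := h3 θ hd hθ
    refine ⟨h4.1, fun h5 => ?_, h4.2⟩
    obtain ⟨s, hs, hs1⟩ := hne
    -- the trivial character is not a constituent
    have : Fintype K := Fintype.ofFinite _
    have hKc : IsClassFunction S (θ : S → ℂ) := Core.isIrr_isClassFunction θ.2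
    have h6 := Cfsg.Agent.OddOrderCharacters.Clifford.classInner_indFun K
      (fun t => ((lam ⟨MulAut.conj (t : S), (hK t).1 t.2⟩ : ℂˣ) : ℂ)) (θ : S → ℂ) hKc
    rw [h4.1] at h6
    let mu : K →* ℂˣ :=
      { toFun := fun t => lam ⟨MulAut.conj (t : S), (hK t).1 t.2⟩
        map_one' := by
          rw [← map_one lam]
          exact congrArg lam (Subtype.ext (map_one MulAut.conj))
        map_mul' := fun x y => by
          rw [← map_mul]
          exact congrArg lam (Subtype.ext (map_mul MulAut.conj (x : S) (y : S))) }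
    have h7 : IsIrrCharacter K (fun t => ((mu t : ℂˣ) : ℂ)) := Linear.isIrrCharacter_hom mu
    have h8 : classInner (fun t => ((mu t : ℂˣ) : ℂ)) (fun _ : K => (1 : ℂ)) = 0 := by
      refine Core.classInner_irr_ne h7 Core.isIrr_one fun h9 => hs1 ?_
      have h10 := congrFun h9 ⟨s, (hK s).2 hs⟩
      exact Units.ext h10
    rw [h5] at h6
    exact one_ne_zero (h6.trans h8)

omit [Fintype S] in
/-- a nonabelian simple group acts faithfully on itself -/
theorem conj_injective [IsSimpleGroup S] (hna : ¬ IsMulCommutative S) :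
    Function.Injective (MulAut.conj : S →* MulAut S) := by
  rw [injective_iff_map_eq_one]
  intro s hs
  have h1 : s ∈ Subgroup.center S := by
    rw [Subgroup.mem_center_iff]
    intro x
    have h2 : s * x * s⁻¹ = x := congrArg (fun a : MulAut S => a x) hs
    rw [mul_inv_eq_iff_eq_mul] at h2
    exact h2.symm
  rcases (inferInstance : (Subgroup.center S).Normal).eq_bot_or_eq_top with h | h
  · rw [h] at h1
    exact Subgroup.mem_bot.1 h1
  · exact absurd ⟨⟨fun x y => (Subgroup.mem_center_iff.1 (h ▸ Subgroup.mem_top y) x)⟩⟩ hna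

end wit

end Cfsg.Agent.H661.OC
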